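import Groth.Prelude.Def_HopfRep
import Groth.Agent.Lib.Comodule.Basic
import Mathlib.RingTheory.HopfAlgebra.Basic
import Mathlib.RingTheory.Coalgebra.GroupLike
import Mathlib.LinearAlgebra.Matrix.Adjugate
import Mathlib.LinearAlgebra.Matrix.Basis
import Mathlib.RingTheory.FiniteType
import Mathlib.LinearAlgebra.StdBasis
import Mathlib.LinearAlgebra.TensorProduct.Pi

/-!
# Matrix comodules and Chevalley's construction of lines
-/

open TensorProduct HopfRep

universe u v w

namespace Groth.Agent.Chevalley

set_option linter.unusedSectionVars false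

variable {k : Type u} [CommRing k] {A : Type v} [CommRing A] [Bialgebra k A]
variable {ι : Type w} [Fintype ι] [DecidableEq ι]

/-- A square matrix which is a corepresentation. -/
structure IsMul (X : Matrix ι ι A) : Prop where
  comul : ∀ i j, CoalgebraStruct.comul (R := k) (X i j) = ∑ l, X i l ⊗ₜ[k] X l j
  counit : ∀ i j, CoalgebraStruct.counit (R := k) (X i j) = if i = j then 1 else 0

/-- The coaction of a matrix. -/
noncomputable def matCoact (X : Matrix ι ι A) : (ι → k) →ₗ[k] (ι → k) ⊗[k] A :=
  (Pi.basisFun k ι).constr k fun j => ∑ i, Pi.basisFun k ι i ⊗ₜ[k] X i j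

lemma matCoact_basis (X : Matrix ι ι A) (j : ι) :
    matCoact (k := k) X (Pi.basisFun k ι j) = ∑ i, Pi.basisFun k ι i ⊗ₜ[k] X i j :=
  Module.Basis.constr_basis _ _ _ _

/-- The comodule of a corepresentation. -/
@[reducible] noncomputable def matComod {X : Matrix ι ι A} (hX : IsMul (k := k) X) : Comod k A (ι → k) where
  coact := matCoact X
  coassoc := by
    refine (Pi.basisFun k ι).ext fun j => ?_
    simp only [LinearMap.comp_apply, LinearEquiv.coe_coe, matCoact_basis, map_sum, LinearMap.rTensor_tmul,
      TensorProduct.sum_tmul, TensorProduct.assoc_tmul, LinearMap.lTensor_tmul, hX.comul, TensorProduct.tmul_sum]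
    exact Finset.sum_comm
  counit_comp := by
    refine (Pi.basisFun k ι).ext fun j => ?_
    simp only [LinearMap.comp_apply, matCoact_basis, map_sum, LinearMap.lTensor_tmul, hX.counit,
      LinearMap.flip_apply, TensorProduct.mk_apply]
    simp [TensorProduct.tmul_ite]

/-- The image of a vector under the matrix. -/
def moved {R : Type*} [CommRing R] [Algebra k R] (M : Matrix ι ι R) (u : ι → k) (i : ι) : R :=
  ∑ j, M i j * algebraMap k R (u j)

lemma lTensor_matCoact {R : Type*} [CommRing R] [Algebra k R] (X : Matrix ι ι A) (f : A →ₗ[k] R) (u : ι → k) :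
    TensorProduct.piScalarRight k k R ι (TensorProduct.comm k _ _ (f.lTensor _ (matCoact X u))) =
      moved (X.map f) u := by
  conv_lhs => rw [← (Pi.basisFun k ι).sum_repr u]
  funext i
  simp only [map_sum, map_smul, matCoact_basis, LinearMap.lTensor_tmul, TensorProduct.comm_tmul, Finset.sum_apply,
    Pi.smul_apply, TensorProduct.piScalarRight_apply, TensorProduct.piScalarRightHom_tmul, Pi.basisFun_repr,
    moved, Matrix.map_apply]
  simp only [Pi.basisFun_apply]
  refine Finset.sum_congr rfl fun j _ => ?_
  rw [Finset.sum_eq_single i (fun l _ hl => by simp [Pi.single_eq_of_ne hl.symm]) (by simp)]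
  simp [Algebra.smul_def, mul_comm]

/-- Stabilizing a line, in coordinates. -/
lemma lTensor_eq_tmul_iff {R : Type*} [CommRing R] [Algebra k R] (X : Matrix ι ι A) (f : A →ₗ[k] R)
    (u : ι → k) (c : R) :
    f.lTensor _ (matCoact X u) = u ⊗ₜ[k] c ↔ ∀ i, moved (X.map f) u i = algebraMap k R (u i) * c := by
  rw [← (TensorProduct.comm k (ι → k) R).injective.eq_iff,
    ← (TensorProduct.piScalarRight k k R ι).injective.eq_iff, lTensor_matCoact, funext_iff]
  refine forall_congr' fun i => ?_
  simp [TensorProduct.piScalarRight_apply, Algebra.smul_def]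

lemma moved_eq_map {R R' : Type*} [CommRing R] [Algebra k R] [CommRing R'] [Algebra k R'] (h : R →ₐ[k] R')
    (M : Matrix ι ι R) (u : ι → k) (i : ι) : moved (M.map h) u i = h (moved M u i) := by
  simp [moved]

/-- Matrix product of two moves. -/
lemma moved_mul {R : Type*} [CommRing R] [Algebra k R] (N M : Matrix ι ι R) (u : ι → k) (i : ι) :
    moved (N * M) u i = ∑ j, N i j * moved M u j := by
  simp only [moved, Matrix.mul_apply, Finset.sum_mul, Finset.mul_sum, mul_assoc]
  exact Finset.sum_comm

section Kron

variable {κ : Type*} [Fintype κ] [DecidableEq κ]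

/-- The tensor product of two matrices. -/
def kron {R : Type*} [CommRing R] (X : Matrix ι ι R) (Y : Matrix κ κ R) : Matrix (ι × κ) (ι × κ) R :=
  fun p q => X p.1 q.1 * Y p.2 q.2

/-- The tensor power of a matrix. -/
def kpow {R : Type*} [CommRing R] (X : Matrix ι ι R) (n : ℕ) : Matrix (Fin n → ι) (Fin n → ι) R :=
  fun p q => ∏ t, X (p t) (q t)

lemma IsMul.kron {X : Matrix ι ι A} {Y : Matrix κ κ A} (hX : IsMul (k := k) X) (hY : IsMul (k := k) Y) :
    IsMul (k := k) (kron X Y) where
  comul p q := by
    simp only [Chevalley.kron, Bialgebra.comul_mul, hX.comul, hY.comul, Finset.sum_mul_sum, Fintype.sum_prod_type,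
      Algebra.TensorProduct.tmul_mul_tmul]
  counit p q := by
    simp only [Chevalley.kron, Bialgebra.counit_mul, hX.counit, hY.counit, Prod.ext_iff]
    by_cases h1 : p.1 = q.1 <;> by_cases h2 : p.2 = q.2 <;> simp [h1, h2]

lemma IsMul.kpow {X : Matrix ι ι A} (hX : IsMul (k := k) X) (n : ℕ) : IsMul (k := k) (kpow X n) where
  comul p q := by
    simp only [Chevalley.kpow]
    rw [show CoalgebraStruct.comul (R := k) (∏ t, X (p t) (q t)) = Bialgebra.comulAlgHom k A (∏ t, X (p t) (q t))
      from rfl, map_prod]
    simp only [Bialgebra.comulAlgHom_apply, hX.comul, Fintype.prod_sum]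
    refine Finset.sum_congr rfl fun r _ => ?_
    induction (Finset.univ : Finset (Fin n)) using Finset.induction_on with
    | empty => simp [Algebra.TensorProduct.one_def]
    | insert a s ha ih => rw [Finset.prod_insert ha, Finset.prod_insert ha, Finset.prod_insert ha, ih,
        Algebra.TensorProduct.tmul_mul_tmul]
  counit p q := by
    simp only [Chevalley.kpow]
    rw [show CoalgebraStruct.counit (R := k) (∏ t, X (p t) (q t)) = Bialgebra.counitAlgHom k A (∏ t, X (p t) (q t))
      from rfl, map_prod]
    simp only [Bialgebra.counitAlgHom_apply, hX.counit]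
    rw [Fintype.prod_boole]
    simp [funext_iff]

variable {R : Type*} [CommRing R] [Algebra k R]

lemma moved_kron (M : Matrix ι ι R) (N : Matrix κ κ R) (u : ι → k) (v : κ → k) (p : ι × κ) :
    moved (kron M N) (fun q => u q.1 * v q.2) p = moved M u p.1 * moved N v p.2 := by
  simp only [moved, Chevalley.kron, Fintype.sum_prod_type, Finset.sum_mul_sum, map_mul]
  exact Finset.sum_congr rfl fun a _ => Finset.sum_congr rfl fun b _ => by ring

lemma moved_kpow (M : Matrix ι ι R) (n : ℕ) (u : ι → k) (p : Fin n → ι) :
    moved (kpow M n) (fun q => ∏ t, u (q t)) p = ∏ t, moved M u (p t) := by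
  simp only [moved, Chevalley.kpow, Fintype.prod_sum, map_prod, ← Finset.prod_mul_distrib]

lemma kpow_mul (M N : Matrix ι ι R) (n : ℕ) : kpow (M * N) n = kpow M n * kpow N n := by
  ext p q
  simp only [Chevalley.kpow, Matrix.mul_apply, Fintype.prod_sum, ← Finset.prod_mul_distrib]

lemma kpow_one (n : ℕ) : kpow (1 : Matrix ι ι R) n = 1 := by
  ext p q
  simp only [Chevalley.kpow, Matrix.one_apply, Fintype.prod_boole]
  simp [funext_iff]

lemma kron_mul (M M' : Matrix ι ι R) (N N' : Matrix κ κ R) : kron (M * M') (N * N') = kron M N * kron M' N' := by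
  ext p q
  simp only [Chevalley.kron, Matrix.mul_apply, Fintype.sum_prod_type, Finset.sum_mul_sum]
  exact Finset.sum_congr rfl fun a _ => Finset.sum_congr rfl fun b _ => by ring

lemma kron_one : kron (1 : Matrix ι ι R) (1 : Matrix κ κ R) = 1 := by
  ext p q
  simp only [Chevalley.kron, Matrix.one_apply, Prod.ext_iff]
  by_cases h1 : p.1 = q.1 <;> by_cases h2 : p.2 = q.2 <;> simp [h1, h2]

lemma map_kpow {R' : Type*} [CommRing R'] [Algebra k R'] (h : R →ₐ[k] R') (M : Matrix ι ι R) (n : ℕ) :
    (kpow M n).map h = kpow (M.map h) n := by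
  ext p q; simp [Chevalley.kpow]

lemma map_kron {R' : Type*} [CommRing R'] [Algebra k R'] (h : R →ₐ[k] R') (M : Matrix ι ι R) (N : Matrix κ κ R) :
    (kron M N).map h = kron (M.map h) (N.map h) := by
  ext p q; simp [Chevalley.kron]

end Kron

/-- A scalar by which an invertible matrix moves a vector with a unit coordinate is a unit. -/
lemma isUnit_of_moved {R : Type*} [CommRing R] [Algebra k R] {N M : Matrix ι ι R} (h : N * M = 1) {u : ι → k}
    {i : ι} (hi : IsUnit (u i)) {c : R} (hc : ∀ j, moved M u j = algebraMap k R (u j) * c) : IsUnit c := by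
  have e : algebraMap k R (u i) = moved N u i * c := by
    have h1 := moved_mul N M u i
    rw [h] at h1
    have h2 : moved (1 : Matrix ι ι R) u i = algebraMap k R (u i) := by simp [moved, Matrix.one_apply]
    rw [← h2, h1, moved, Finset.sum_mul]
    exact Finset.sum_congr rfl fun j _ => by rw [hc]; ring
  exact isUnit_of_mul_isUnit_right (e ▸ hi.map (algebraMap k R))

section Hopf

variable {A : Type v} [CommRing A] [HopfAlgebra k A] {R : Type*} [CommRing R] [Algebra k R]

/-- A corepresentation evaluated at a point is invertible. -/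
lemma IsMul.exists_inv {X : Matrix ι ι A} (hX : IsMul (k := k) X) (g : A →ₐ[k] R) :
    ∃ N : Matrix ι ι R, N * X.map g = 1 := by
  refine ⟨(X.map (HopfAlgebraStruct.antipode (R := k))).map g, ?_⟩
  ext i j
  have h := congrArg g (HopfAlgebra.mul_antipode_rTensor_comul_apply (R := k) (X i j))
  rw [hX.comul, hX.counit] at h
  simp only [map_sum, LinearMap.rTensor_tmul, LinearMap.mul'_apply, map_mul, AlgHom.commutes] at h
  rw [Matrix.mul_apply, Matrix.one_apply]
  simp only [Matrix.map_apply]
  rw [h]
  split_ifs <;> simp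

end Hopf

section Wedge

variable {α β : Type*} [Fintype α] [DecidableEq α] [Fintype β] [DecidableEq β]

/-- The wedge of the first block of basis vectors. -/
noncomputable def wedge (I : α → α ⊕ β) : k :=
  ((1 : Matrix (α ⊕ β) (α ⊕ β) k).submatrix I Sum.inl).det

variable {R : Type*} [CommRing R] [Algebra k R]

lemma moved_wedge (M : Matrix (α ⊕ β) (α ⊕ β) R) (I : α → α ⊕ β) :
    ∑ J : α → α ⊕ β, (∏ t, M (I t) (J t)) * algebraMap k R (wedge J) = (M.submatrix I Sum.inl).det := by
  have h : ∀ J : α → α ⊕ β, algebraMap k R (wedge J) =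
      ∑ σ : Equiv.Perm α, ((Equiv.Perm.sign σ : ℤ) : R) * ∏ t, if J t = Sum.inl (σ t) then 1 else 0 := by
    intro J
    rw [wedge, ← Matrix.det_transpose, Matrix.det_apply', map_sum]
    refine Finset.sum_congr rfl fun σ _ => ?_
    rw [map_mul, map_intCast, map_prod]
    congr 1
    refine Finset.prod_congr rfl fun t _ => ?_
    rw [Matrix.transpose_apply, Matrix.submatrix_apply, Matrix.one_apply]
    split_ifs <;> simp
  simp only [h, Finset.mul_sum]
  rw [Finset.sum_comm, ← Matrix.det_transpose, Matrix.det_apply']
  refine Finset.sum_congr rfl fun σ _ => ?_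
  simp only [mul_left_comm _ ((Equiv.Perm.sign σ : ℤ) : R), ← Finset.prod_mul_distrib, ← Finset.mul_sum]
  rw [← Fintype.prod_sum (fun t l => M (I t) l * if l = Sum.inl (σ t) then 1 else 0)]
  simp

lemma moved_kpow_wedge {d : ℕ} (M : Matrix (Fin d ⊕ β) (Fin d ⊕ β) R) (I : Fin d → Fin d ⊕ β) :
    moved (kpow M d) (wedge (k := k)) I = (M.submatrix I Sum.inl).det :=
  moved_wedge M I

lemma wedge_inl : wedge (k := k) (Sum.inl : α → α ⊕ β) = 1 := by
  simp [wedge, Matrix.submatrix_one _ Sum.inl_injective]

/-- A block triangular matrix moves the wedge by the determinant of the block. -/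
lemma det_submatrix_of_block {M : Matrix (α ⊕ β) (α ⊕ β) R} (h : ∀ i j, M (Sum.inr i) (Sum.inl j) = 0)
    (I : α → α ⊕ β) :
    (M.submatrix I Sum.inl).det = algebraMap k R (wedge I) * (M.submatrix Sum.inl Sum.inl).det := by
  have : (algebraMap k R).mapMatrix ((1 : Matrix (α ⊕ β) (α ⊕ β) k).submatrix I (Sum.inl : α → α ⊕ β)) *
      M.submatrix Sum.inl Sum.inl = M.submatrix I Sum.inl := by
    ext a b
    rw [Matrix.mul_apply]
    simp only [RingHom.mapMatrix_apply, Matrix.map_apply, Matrix.submatrix_apply, Matrix.one_apply]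
    cases I a with
    | inl l => simp
    | inr l => simp [h]
  rw [← this, Matrix.det_mul, wedge, RingHom.map_det]

/-- Only block triangular matrices fix the line of the wedge. -/
lemma block_of_moved {M : Matrix (α ⊕ β) (α ⊕ β) R} {c : R} (hc : IsUnit c)
    (h : ∀ I : α → α ⊕ β, (M.submatrix I Sum.inl).det = algebraMap k R (wedge I) * c) (i : β) (j : α) :
    M (Sum.inr i) (Sum.inl j) = 0 := by
  let T := M.submatrix (Sum.inl : α → α ⊕ β) Sum.inl
  let b : α → R := fun j => M (Sum.inr i) (Sum.inl j)
  have hT : T.det = c := by rw [h Sum.inl, wedge_inl, map_one, one_mul]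
  have hcr : Matrix.cramer T.transpose b = 0 := by
    funext a
    rw [Matrix.cramer_transpose_apply]
    have e : T.updateRow a b = M.submatrix (Function.update Sum.inl a (Sum.inr i)) Sum.inl := by
      ext x y
      by_cases hx : x = a <;> simp [hx, T, b]
    rw [e, h]
    have : wedge (k := k) (Function.update Sum.inl a (Sum.inr i) : α → α ⊕ β) = 0 := by
      refine Matrix.det_eq_zero_of_row_eq_zero a fun y => ?_
      simp
    simp [this]
  have := Matrix.mulVec_cramer T.transpose b
  rw [hcr, Matrix.mulVec_zero, Matrix.det_transpose, hT] at this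
  have := congrFun this.symm j
  simpa [b, hc.mul_right_eq_zero] using this

end Wedge

section Block

variable {α β : Type*} [Fintype α] [DecidableEq α] [Fintype β] [DecidableEq β]

/-- The diagonal block of a triangular corepresentation has group-like determinant. -/
lemma IsMul.isGroupLike_det {Y : Matrix (α ⊕ β) (α ⊕ β) A} (hY : IsMul (k := k) Y)
    (h : ∀ i j, Y (Sum.inr i) (Sum.inl j) = 0) :
    IsGroupLikeElem k (Y.submatrix (Sum.inl : α → α ⊕ β) Sum.inl).det where
  counit_eq_one := by
    have e : (Y.submatrix (Sum.inl : α → α ⊕ β) Sum.inl).map (Bialgebra.counitAlgHom k A) = 1 := by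
      ext a b; simp [hY.counit, Matrix.one_apply]
    rw [show ∀ x, Coalgebra.counit (R := k) x = Bialgebra.counitAlgHom k A x from fun x => rfl, AlgHom.map_det]
    exact (congrArg Matrix.det e).trans Matrix.det_one
  comul_eq_tmul_self := by
    let T := Y.submatrix (Sum.inl : α → α ⊕ β) Sum.inl
    have e : (Bialgebra.comulAlgHom k A).mapMatrix T =
        (Algebra.TensorProduct.includeLeft : A →ₐ[k] A ⊗[k] A).mapMatrix T *
          (Algebra.TensorProduct.includeRight : A →ₐ[k] A ⊗[k] A).mapMatrix T := by
      ext a b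
      simp [T, hY.comul, Matrix.mul_apply, Fintype.sum_sum_type, h, Algebra.TensorProduct.tmul_mul_tmul]
    show Bialgebra.comulAlgHom k A T.det = T.det ⊗ₜ[k] T.det
    rw [AlgHom.map_det, e, Matrix.det_mul, ← AlgHom.map_det, ← AlgHom.map_det]
    simp [Algebra.TensorProduct.tmul_mul_tmul]

end Block

section Basis

variable {V : Type*} [AddCommGroup V] [Module k V] [Comod k A V]

/-- The matrix of a comodule in a basis. -/
noncomputable def matrixOf (e : Module.Basis ι k V) : Matrix ι ι A :=
  fun i j => TensorProduct.lid k A ((e.coord i).rTensor A (Comod.coact (k := k) (A := A) (e j)))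

lemma coact_basis (e : Module.Basis ι k V) (j : ι) :
    Comod.coact (k := k) (A := A) (e j) = ∑ i, e i ⊗ₜ[k] matrixOf (A := A) e i j := by
  simp only [matrixOf]
  generalize Comod.coact (k := k) (A := A) (e j) = t
  induction t with
  | zero => simp
  | add p q hp hq => simp only [map_add, TensorProduct.tmul_add, Finset.sum_add_distrib, ← hp, ← hq]
  | tmul x a =>
    simp only [LinearMap.rTensor_tmul, TensorProduct.lid_tmul, Module.Basis.coord_apply]
    conv_lhs => rw [← e.sum_repr x, TensorProduct.sum_tmul]
    exact Finset.sum_congr rfl fun i _ => by rw [TensorProduct.smul_tmul]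

lemma isMul_matrixOf (e : Module.Basis ι k V) : IsMul (k := k) (matrixOf (A := A) e) where
  comul i j := by
    have h := congrArg (fun t => TensorProduct.lid k (A ⊗[k] A) ((e.coord i).rTensor (A ⊗[k] A) t))
      (LinearMap.congr_fun (Comod.coassoc (k := k) (A := A) (V := V)) (e j))
    simp only [LinearMap.comp_apply, LinearEquiv.coe_coe, coact_basis, map_sum, LinearMap.rTensor_tmul,
      TensorProduct.sum_tmul, TensorProduct.assoc_tmul, LinearMap.lTensor_tmul, TensorProduct.lid_tmul,
      Module.Basis.coord_apply, Module.Basis.repr_self, Finsupp.single_apply, ite_smul, one_smul, zero_smul,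
      Finset.sum_ite_eq', Finset.mem_univ, if_true] at h
    exact h.symm
  counit i j := by
    have h := congrArg (fun t => TensorProduct.rid k k ((e.coord i).rTensor k t))
      (LinearMap.congr_fun (Comod.counit_comp (k := k) (A := A) (V := V)) (e j))
    simp only [LinearMap.comp_apply, coact_basis, map_sum, LinearMap.lTensor_tmul, LinearMap.rTensor_tmul,
      LinearMap.flip_apply, TensorProduct.mk_apply, TensorProduct.rid_tmul, Module.Basis.coord_apply,
      Module.Basis.repr_self, Finsupp.single_apply, smul_eq_mul, mul_ite, mul_one, mul_zero,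
      Finset.sum_ite_eq', Finset.mem_univ, if_true, one_mul] at h
    rw [h]
    by_cases hij : i = j
    · simp [hij]
    · rw [if_neg (Ne.symm hij), if_neg hij]

lemma coact_eq_matCoact (e : Module.Basis ι k V) (v : V) :
    e.equivFun.toLinearMap.rTensor A (Comod.coact (k := k) (A := A) v) =
      matCoact (matrixOf (A := A) e) (e.equivFun v) := by
  refine LinearMap.congr_fun (e.ext fun j => ?_ :
    e.equivFun.toLinearMap.rTensor A ∘ₗ Comod.coact (k := k) (A := A) =
      matCoact (matrixOf (A := A) e) ∘ₗ e.equivFun.toLinearMap) v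
  have hb : ∀ i, e.equivFun (e i) = Pi.basisFun k ι i := fun i => by
    ext l; simp [Pi.single_apply, eq_comm]
  simp only [LinearMap.comp_apply, coact_basis, map_sum, LinearMap.rTensor_tmul, LinearEquiv.coe_coe, hb,
    matCoact_basis]

end Basis

end Groth.Agent.Chevalley
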